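import Cfsg.Agent.H71.HSpanQuot
import Cfsg.Agent.H649.Transport

/-!
# S4880, piece B8c (helper426)

`triv`: the members of the principal block of `C_G(x)` are invariant under `N_G(⟨x⟩)` on the `p`-regular elements,
from the case of a normal subgroup with Sylow `p`-subgroup of order `p` (hypothesis `H8b`, the piece B8b).
-/

set_option autoImplicit false

open Cfsg

namespace Cfsg.Agent.H426.OneP

open Cfsg.Agent.H71.HSpanQuot Cfsg.Agent.H644.CentralQuot

universe u

/-- the statement of B8b -/
def NormalTriv (p : ℕ) [Fact p.Prime] (M : Ideal AlgInt) : Prop :=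
  ∀ {X : Type u} [Group X] [Finite X] (_ : IsPModular p M) (_ : p ≠ 2)
    (C : Subgroup X) [C.Normal] (P : Sylow p X) (_ : Nat.card P = p) (_ : (P : Subgroup X) ≤ C)
    (_ : p - 1 ≤ 2 * (Subgroup.centralizer ((P : Subgroup X) : Set X)).relIndex
      (Subgroup.normalizer ((P : Subgroup X) : Set X) ⊓ C))
    {ψ : IrrCharacter C} (_ : ψ ∈ principalBlock M C) (c : X) (s s' : C) (_ : ¬ p ∣ orderOf s)
    (_ : (s' : X) = c * s * c⁻¹), (ψ : C → ℂ) s' = (ψ : C → ℂ) s

variable {G : Type u} [Group G] [Finite G] {p : ℕ} [hp : Fact p.Prime] {M : Ideal AlgInt}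

/-- An element normalizing the abelian Sylow subgroup `P`, centralizing `x` and the quotient `P / ⟨x⟩`
centralizes `P`. -/
theorem mem_centralizer_of_quot (P : Sylow p G) (hel : ∀ y ∈ (P : Subgroup G), y ^ p = 1)
    (habel : ∀ a ∈ (P : Subgroup G), ∀ b ∈ (P : Subgroup G), a * b = b * a) {x c : G}
    (hx : x ∈ (P : Subgroup G))
    (hc : c ∈ Subgroup.normalizer ((P : Subgroup G) : Set G)) (hcx : c ∈ Subgroup.centralizer ({x} : Set G))
    (h : ∀ y ∈ (P : Subgroup G), y⁻¹ * (c * y * c⁻¹) ∈ Subgroup.zpowers x) :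
    c ∈ Subgroup.centralizer ((P : Subgroup G) : Set G) := by
  have hcx' : Commute c x := Subgroup.mem_centralizer_singleton_iff.1 hcx
  have hp0 := hp.out
  -- `c ^ p` centralizes `P`
  have h1 : c ^ p ∈ Subgroup.centralizer ((P : Subgroup G) : Set G) := by
    rw [Subgroup.mem_centralizer_iff]
    intro y hy
    obtain ⟨i, hi⟩ := Subgroup.mem_zpowers_iff.1 (h y hy)
    have hyi : c * y * c⁻¹ = y * x ^ i := by rw [hi]; group
    have key : ∀ k : ℕ, c ^ k * y * (c ^ k)⁻¹ = y * (x ^ i) ^ k := by
      intro k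
      induction k with
      | zero => simp
      | succ k ih =>
        have e1 : c ^ (k + 1) * y * (c ^ (k + 1))⁻¹ = c * (c ^ k * y * (c ^ k)⁻¹) * c⁻¹ := by
          rw [pow_succ']; group
        have e2 : Commute c ((x ^ i) ^ k) := (hcx'.zpow_right i).pow_right k
        rw [e1, ih]
        calc c * (y * (x ^ i) ^ k) * c⁻¹ = (c * y * c⁻¹) * (c * (x ^ i) ^ k * c⁻¹) := by group
          _ = (y * x ^ i) * (x ^ i) ^ k := by rw [hyi, e2.eq, mul_inv_cancel_right]
          _ = y * (x ^ i) ^ (k + 1) := by rw [mul_assoc, ← pow_succ']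
    have h2 := key p
    have h3 : (x ^ i) ^ p = 1 := by
      rw [← zpow_natCast, ← zpow_mul, mul_comm, zpow_mul, zpow_natCast, hel x hx, one_zpow]
    rw [h3, mul_one] at h2
    have h4 : c ^ p * y = y * c ^ p := mul_inv_eq_iff_eq_mul.1 h2
    exact h4.symm
  -- the index of `C_G(P)` in `N_G(P)` is prime to `p`
  set N := Subgroup.normalizer ((P : Subgroup G) : Set G) with hN
  set D := Subgroup.centralizer ((P : Subgroup G) : Set G) with hD
  have hPD : (P : Subgroup G) ≤ D := fun a ha => Subgroup.mem_centralizer_iff.2 fun b hb => habel b hb a ha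
  have hDN : D ≤ N := Subgroup.centralizer_le_normalizer _
  have hnd : ¬ p ∣ D.relIndex N := by
    intro h5
    apply P.not_dvd_index
    have h6 : D.relIndex N ∣ (P : Subgroup G).relIndex N := Subgroup.relIndex_dvd_of_le_left N hPD
    exact (h5.trans h6).trans (Subgroup.relIndex_dvd_index_of_le (hPD.trans hDN))
  have hnorm : (D.subgroupOf N).Normal := by
    rw [hD, hN]
    exact Subgroup.normal_subgroupOf_centralizer_normalizer _
  have h7 : c ^ D.relIndex N ∈ D := by
    have h8 := Subgroup.pow_index_mem (D.subgroupOf N) ⟨c, hc⟩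
    exact h8
  have hcop : Nat.Coprime p (D.relIndex N) := (Nat.Prime.coprime_iff_not_dvd hp0).2 hnd
  have h9 := Nat.gcd_eq_gcd_ab p (D.relIndex N)
  rw [hcop] at h9
  have h10 : c = (c ^ p) ^ (Nat.gcdA p (D.relIndex N)) * (c ^ D.relIndex N) ^ (Nat.gcdB p (D.relIndex N)) := by
    rw [← zpow_natCast, ← zpow_natCast, ← zpow_mul, ← zpow_mul, ← zpow_add, ← h9]
    simp
  rw [h10]
  exact D.mul_mem (D.zpow_mem h1 _) (D.zpow_mem h7 _)

/-- B8c, from B8b. -/
theorem triv_of (H8b : NormalTriv.{u} p M) (hM : IsPModular p M) (hp2 : p ≠ 2) (P : Sylow p G)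
    (hP : Nat.card P = p ^ 2)
    (hel : ∀ x ∈ (P : Subgroup G), x ^ p = 1) {x : G} (hx : x ∈ (P : Subgroup G)) (hx1 : x ≠ 1)
    (hE : p - 1 ≤ 2 * (Subgroup.centralizer ((P : Subgroup G) : Set G)).relIndex
      (Subgroup.normalizer ((P : Subgroup G) : Set G) ⊓ Subgroup.centralizer ({x} : Set G)))
    {ψ : IrrCharacter (Subgroup.centralizer ({x} : Set G))}
    (hψ : ψ ∈ principalBlock M (Subgroup.centralizer ({x} : Set G)))
    {n : G} (hn : n ∈ Subgroup.normalizer ((Subgroup.zpowers x : Subgroup G) : Set G))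
    (s s' : Subgroup.centralizer ({x} : Set G)) (hs : ¬ p ∣ orderOf s)
    (hc : (s' : G) = n * s * n⁻¹) :
    (ψ : Subgroup.centralizer ({x} : Set G) → ℂ) s' =
      (ψ : Subgroup.centralizer ({x} : Set G) → ℂ) s := by
  classical
  have hp0 := hp.out
  have habel : ∀ a ∈ (P : Subgroup G), ∀ b ∈ (P : Subgroup G), a * b = b * a := by
    intro a ha b hb
    have hcomm := IsPGroup.isMulCommutative_of_card_eq_prime_sq hP
    exact congrArg Subtype.val (hcomm.is_comm.comm (⟨a, ha⟩ : P) ⟨b, hb⟩)
  have hxo : orderOf x = p := orderOf_eq_prime (hel x hx) hx1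
  let H : Subgroup G := Subgroup.normalizer ((Subgroup.zpowers x : Subgroup G) : Set G)
  have hCz : Subgroup.centralizer ({x} : Set G) = Subgroup.centralizer ((Subgroup.zpowers x : Subgroup G) : Set G) := by
    ext g
    rw [Subgroup.mem_centralizer_singleton_iff, Subgroup.mem_centralizer_iff]
    constructor
    · rintro h _ ⟨i, rfl⟩
      exact ((show Commute g x from h).zpow_right i).eq.symm
    · intro h
      exact (h x (Subgroup.mem_zpowers x)).symm
  let C : Subgroup G := Subgroup.centralizer ({x} : Set G)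
  have hCH : C ≤ H := by
    show Subgroup.centralizer ({x} : Set G) ≤ Subgroup.normalizer ((Subgroup.zpowers x : Subgroup G) : Set G)
    rw [hCz]
    exact Subgroup.centralizer_le_normalizer _
  have hPC : (P : Subgroup G) ≤ C := fun a ha => Subgroup.mem_centralizer_singleton_iff.2 (habel a ha x hx)
  have hZC : Subgroup.zpowers x ≤ C := by
    rw [Subgroup.zpowers_le]
    exact Subgroup.mem_centralizer_singleton_iff.2 rfl
  have hZP : Subgroup.zpowers x ≤ (P : Subgroup G) := by rwa [Subgroup.zpowers_le]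
  have hPH : (P : Subgroup G) ≤ H := hPC.trans hCH
  have hZn : ((Subgroup.zpowers x).subgroupOf H).Normal := Subgroup.normal_in_normalizer
  let X := H ⧸ (Subgroup.zpowers x).subgroupOf H
  let π : H →* X := QuotientGroup.mk' _
  have hπs : Function.Surjective π := QuotientGroup.mk'_surjective _
  have hπker : ∀ h : H, π h = 1 ↔ (h : G) ∈ Subgroup.zpowers x := by
    intro h
    rw [QuotientGroup.mk'_apply, QuotientGroup.eq_one_iff, Subgroup.mem_subgroupOf]
  have hCn : (C.subgroupOf H).Normal := by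
    show ((Subgroup.centralizer ({x} : Set G)).subgroupOf
      (Subgroup.normalizer ((Subgroup.zpowers x : Subgroup G) : Set G))).Normal
    rw [hCz]
    exact Subgroup.normal_subgroupOf_centralizer_normalizer _
  let CX : Subgroup X := (C.subgroupOf H).map π
  have hCXn : CX.Normal := hCn.map π hπs
  let PX : Sylow p X := (P.subtype hPH).mapSurjective hπs
  have hPXc : (PX : Subgroup X) = ((P : Subgroup G).subgroupOf H).map π := rfl
  have hPXC : (PX : Subgroup X) ≤ CX := by
    rw [hPXc]
    exact Subgroup.map_mono (fun a ha => hPC ha)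
  have hmemPX : ∀ y (hy : y ∈ (P : Subgroup G)), π ⟨y, hPH hy⟩ ∈ (PX : Subgroup X) := fun y hy => by
    rw [hPXc]; exact ⟨⟨y, hPH hy⟩, hy, rfl⟩
  have hcardZ : Nat.card (Subgroup.zpowers x) = p := by rw [Nat.card_zpowers, hxo]
  have hPXcard : Nat.card PX = p := by
    let f : P →* X := π.comp (Subgroup.inclusion hPH)
    have h1 : f.range = (PX : Subgroup X) := by
      ext y
      rw [hPXc]
      constructor
      · rintro ⟨a, rfl⟩
        exact ⟨⟨a, hPH a.2⟩, a.2, rfl⟩
      · rintro ⟨a, ha, rfl⟩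
        exact ⟨⟨a, ha⟩, rfl⟩
    have h2 : f.ker = (Subgroup.zpowers x).subgroupOf (P : Subgroup G) := by
      ext y
      rw [MonoidHom.mem_ker, Subgroup.mem_subgroupOf]
      exact hπker _
    have h3 := f.ker.card_mul_index
    rw [Subgroup.index_ker, h1, h2, Nat.card_congr (Subgroup.subgroupOfEquivOfLe hZP).toEquiv, hcardZ, hP,
      pow_two] at h3
    exact Nat.eq_of_mul_eq_mul_left hp0.pos h3
  have hE' : p - 1 ≤ 2 * (Subgroup.centralizer ((PX : Subgroup X) : Set X)).relIndex
      (Subgroup.normalizer ((PX : Subgroup X) : Set X) ⊓ CX) := by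
    refine hE.trans (Nat.mul_le_mul_left 2 ?_)
    let NC : Subgroup G := Subgroup.normalizer ((P : Subgroup G) : Set G) ⊓ C
    have hNCH : NC ≤ H := inf_le_right.trans hCH
    let f : NC →* X := π.comp (Subgroup.inclusion hNCH)
    have hf : ∀ c : NC, f c = π ⟨c, hNCH c.2⟩ := fun c => rfl
    have hr : f.range ≤ Subgroup.normalizer ((PX : Subgroup X) : Set X) ⊓ CX := by
      rintro _ ⟨c, rfl⟩
      refine ⟨?_, ⟨⟨c, hNCH c.2⟩, c.2.2, rfl⟩⟩
      have hsub : ∀ c : NC, ∀ y ∈ (PX : Subgroup X), f c * y * (f c)⁻¹ ∈ (PX : Subgroup X) := by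
        intro c y hy
        rw [hPXc] at hy
        obtain ⟨a, ha, rfl⟩ := hy
        have h1 : (c : G) * a * (c : G)⁻¹ ∈ (P : Subgroup G) := (Subgroup.mem_normalizer_iff.1 c.2.1 a).1 ha
        have h2 := hmemPX _ h1
        have h3 : π ⟨(c : G) * a * (c : G)⁻¹, hPH h1⟩ = f c * π a * (f c)⁻¹ := by
          rw [hf, ← map_mul, ← map_inv, ← map_mul]
          rfl
        rwa [h3] at h2
      change f c ∈ Subgroup.normalizer ((PX : Subgroup X) : Set X)
      rw [Subgroup.mem_normalizer_iff]
      intro y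
      refine ⟨hsub c y, fun h => ?_⟩
      have h1 := hsub c⁻¹ _ h
      have h2 : f c⁻¹ * (f c * y * (f c)⁻¹) * (f c⁻¹)⁻¹ = y := by
        rw [map_inv]; group
      rwa [h2] at h1
    have hcomap : (Subgroup.centralizer ((PX : Subgroup X) : Set X)).comap f =
        (Subgroup.centralizer ((P : Subgroup G) : Set G)).subgroupOf NC := by
      ext c
      rw [Subgroup.mem_comap, Subgroup.mem_subgroupOf]
      constructor
      · intro h
        refine mem_centralizer_of_quot P hel habel hx c.2.1 c.2.2 fun y hy => ?_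
        have h1 : (c : G) * y * (c : G)⁻¹ ∈ (P : Subgroup G) := (Subgroup.mem_normalizer_iff.1 c.2.1 y).1 hy
        have h2 := Subgroup.mem_centralizer_iff.1 h _ (hmemPX y hy)
        have h4 : π ⟨y⁻¹ * ((c : G) * y * (c : G)⁻¹), hPH (mul_mem (inv_mem hy) h1)⟩ = 1 := by
          have h5 : π ⟨y⁻¹ * ((c : G) * y * (c : G)⁻¹), hPH (mul_mem (inv_mem hy) h1)⟩ =
              (π ⟨y, hPH hy⟩)⁻¹ * (f c * π ⟨y, hPH hy⟩ * (f c)⁻¹) := by
            rw [hf, ← map_inv π, ← map_inv π, ← map_mul, ← map_mul, ← map_mul]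
            rfl
          rw [h5, ← h2]
          group
        exact (hπker _).1 h4
      · intro h
        rw [Subgroup.mem_centralizer_iff]
        intro y hy
        rw [hPXc] at hy
        obtain ⟨a, ha, rfl⟩ := hy
        rw [hf, ← map_mul, ← map_mul]
        congr 1
        exact Subtype.ext (Subgroup.mem_centralizer_iff.1 h _ ha)
    have h1 : (Subgroup.centralizer ((P : Subgroup G) : Set G)).relIndex NC =
        (Subgroup.centralizer ((PX : Subgroup X) : Set X)).relIndex f.range := by
      rw [← Subgroup.index_comap, hcomap]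
      rfl
    have h2 : (Subgroup.centralizer ((PX : Subgroup X) : Set X)).relIndex f.range ≤
        (Subgroup.centralizer ((PX : Subgroup X) : Set X)).relIndex
          (Subgroup.normalizer ((PX : Subgroup X) : Set X) ⊓ CX) :=
      Subgroup.relIndex_le_of_le_right hr Subgroup.index_ne_zero_of_finite
    exact h1.le.trans h2
  -- the projection `C → CX`
  let U : Subgroup C := (Subgroup.zpowers x).subgroupOf C
  have hUc : U ≤ Subgroup.center C := by
    intro u hu
    rw [Subgroup.mem_center_iff]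
    intro g
    apply Subtype.ext
    have h1 : (g : G) ∈ Subgroup.centralizer ((Subgroup.zpowers x : Subgroup G) : Set G) := hCz.le g.2
    exact (Subgroup.mem_centralizer_iff.1 h1 _ hu).symm
  have hUn : U.Normal := by
    constructor
    intro u hu g
    have h1 := Subgroup.mem_center_iff.1 (hUc hu) g
    rwa [h1, mul_inv_cancel_right]
  have hUp : IsPGroup p U := IsPGroup.of_card (n := 1) (by
    rw [Nat.card_congr (Subgroup.subgroupOfEquivOfLe hZC).toEquiv, hcardZ, pow_one])
  let f : C →* CX := (π.comp (Subgroup.inclusion hCH)).codRestrict CX fun c => ⟨⟨c, hCH c.2⟩, c.2, rfl⟩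
  have hf : ∀ c : C, (f c : X) = π ⟨c, hCH c.2⟩ := fun c => rfl
  have hfs : Function.Surjective f := by
    rintro ⟨_, c, hc', rfl⟩
    exact ⟨⟨c, hc'⟩, rfl⟩
  have hfk : f.ker = U := by
    ext c
    rw [MonoidHom.mem_ker]
    constructor
    · intro h
      have h1 := congrArg Subtype.val h
      exact (hπker _).1 h1
    · intro h
      exact Subtype.ext ((hπker _).2 h)
  let e : C ⧸ U ≃* CX := (QuotientGroup.quotientMulEquivOfEq hfk.symm).trans
    (QuotientGroup.quotientKerEquivOfSurjective f hfs)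
  have he : ∀ c : C, e (c : C ⧸ U) = f c := fun c => rfl
  have : Finite (IrrCharacter (C ⧸ U)) := Characters.Core.finite_irr
  have := Fintype.ofFinite (IrrCharacter (C ⧸ U))
  obtain ⟨a, ha⟩ := exists_int_infl hM U hUc hUp hψ
  have hs' : ¬ p ∣ orderOf s' := by
    have h1 : orderOf (s' : G) = orderOf (s : G) := by
      rw [hc]
      exact (orderOf_injective (MulAut.conj n).toMonoidHom (MulAut.conj n).injective (s : G))
    rw [← Subgroup.orderOf_coe, h1, Subgroup.orderOf_coe]
    exact hs
  rw [ha s hs, ha s' hs']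
  refine Finset.sum_congr rfl fun θ hθ => ?_
  congr 1
  have h1 : H649.irrMap e θ ∈ principalBlock M CX := by
    rw [← H649.blkMap_principalBlock e, H649.irrMap_mem_blkMap]
    exact (Finset.mem_filter.1 hθ).2
  have h2 := H8b hM hp2 CX PX hPXcard hPXC hE' h1 (π ⟨n, hn⟩) (f s) (f s') ?_ ?_
  · rw [← he, ← he, H649.irrMap_apply', H649.irrMap_apply'] at h2
    exact h2
  · exact fun h => hs (h.trans (orderOf_map_dvd f s))
  · rw [hf, hf, ← map_mul, ← map_inv, ← map_mul]
    congr 1
    exact Subtype.ext hc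

end Cfsg.Agent.H426.OneP
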